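import Groth.Agent.FreeSec27.Basic
import Groth.Agent.CohExch.AffineBC0
import Groth.Agent.CohExch.FlatBC0
import Groth.Agent.DQCoh.BCPush17
import Groth.Agent.DCat.PullTensor
import Groth.Agent.ModStalk.Pullback

/-!
# Base change of the restriction map to a divisor
-/

set_option autoImplicit false
set_option linter.style.haveILetI false
set_option linter.unusedSectionVars false
set_option backward.isDefEq.respectTransparency.types false

universe u

open CategoryTheory CategoryTheory.Limits AlgebraicGeometry Opposite TopologicalSpace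
open Groth.Agent.Coherent Groth.Agent.PicLib Groth.Agent.CurveRR24

namespace Groth.Agent.FreeSec27

/-- Faithfully flat pullback reflects vanishing. -/
theorem isZero_of_pullback {X Y : Scheme.{u}} (u : X ⟶ Y) [Flat u] [Surjective u] (M : Y.Modules)
    (h : IsZero ((Scheme.Modules.pullback u).obj M)) : IsZero M := by
  refine ModStalk.isZero_of_stalks fun y => ?_
  obtain ⟨x, rfl⟩ := u.surjective y
  let φ := (u.stalkMap x).hom
  letI := φ.toAlgebra
  haveI : Module.Flat (Y.presheaf.stalk (u x)) (X.presheaf.stalk x) := Flat.stalkMap u x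
  haveI : IsLocalHom (algebraMap (Y.presheaf.stalk (u x)) (X.presheaf.stalk x)) :=
    inferInstanceAs (IsLocalHom (u.stalkMap x).hom)
  haveI : Module.FaithfullyFlat (Y.presheaf.stalk (u x)) (X.presheaf.stalk x) :=
    Module.FaithfullyFlat.of_flat_of_isLocalHom
  let N := (DerSch.stalkFunctor Y (u x)).obj M
  have hz : IsZero ((ModuleCat.extendScalars φ).obj N) :=
    ((DerSch.stalkFunctor X x).map_isZero h).of_iso ((ModStalk.pullbackStalkIso u x).app M).symm
  haveI : Subsingleton (TensorProduct (Y.presheaf.stalk (u x)) (X.presheaf.stalk x) N) :=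
    ModuleCat.isZero_iff_subsingleton.1 hz
  exact ModuleCat.isZero_iff_subsingleton.2
    (Module.FaithfullyFlat.lTensor_reflects_triviality (Y.presheaf.stalk (u x)) (X.presheaf.stalk x) N)

/-- Faithfully flat pullback reflects epimorphisms. -/
theorem epi_of_pullback {X Y : Scheme.{u}} (u : X ⟶ Y) [Flat u] [Surjective u] {A B : Y.Modules}
    (φ : A ⟶ B) [Epi ((Scheme.Modules.pullback u).map φ)] : Epi φ := by
  haveI : PreservesColimitsOfSize.{0, 0} (Scheme.Modules.pullback u) :=
    (Scheme.Modules.pullbackPushforwardAdjunction u).leftAdjoint_preservesColimits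
  refine Preadditive.epi_of_isZero_cokernel _ (isZero_of_pullback u _ ?_)
  exact (isZero_cokernel_of_epi ((Scheme.Modules.pullback u).map φ)).of_iso
    (PreservesCokernel.iso (Scheme.Modules.pullback u) φ)

section

variable {W W' T T' C : Scheme.{u}} {p : W ⟶ T} {p' : W' ⟶ T'} {u : T' ⟶ T} {m : W' ⟶ W}
  (hm : IsPullback m p' p u) {q : W ⟶ C} {q' : W' ⟶ C} (hq : m ≫ q = q') (F : W.Modules)

/-- Pullback of `F ⊗ q^* N`. -/
noncomputable def pullTwIso (N : C.Modules) :
    (Scheme.Modules.pullback m).obj ((tw (q := q) F).obj N) ≅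
      (tw (q := q') ((Scheme.Modules.pullback m).obj F)).obj N :=
  DCat.PullTensor.pullTensorIso m F ((Scheme.Modules.pullback q).obj N) ≪≫
    (Coherent.tensE ((Scheme.Modules.pullback m).obj F)).mapIso
      ((Scheme.Modules.pullbackComp m q).app N ≪≫ (Scheme.Modules.pullbackCongr hq).app N)

theorem pullTwIso_nat {N N' : C.Modules} (t : N ⟶ N') :
    (Scheme.Modules.pullback m).map ((tw (q := q) F).map t) ≫ (pullTwIso hq F N').hom =
      (pullTwIso hq F N).hom ≫ (tw (q := q') ((Scheme.Modules.pullback m).obj F)).map t := by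
  have h₁ := DCat.PullTensor.pullTensorHom_nat₂ m F ((Scheme.Modules.pullback q).map t)
  have h₂ : (Scheme.Modules.pullback m).map ((Scheme.Modules.pullback q).map t) ≫
      ((Scheme.Modules.pullbackComp m q).app N' ≪≫ (Scheme.Modules.pullbackCongr hq).app N').hom =
      ((Scheme.Modules.pullbackComp m q).app N ≪≫ (Scheme.Modules.pullbackCongr hq).app N).hom ≫
        (Scheme.Modules.pullback q').map t := by
    have a := (Scheme.Modules.pullbackComp m q).hom.naturality t
    have b := (Scheme.Modules.pullbackCongr hq).hom.naturality t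
    simp only [Functor.comp_map] at a
    simp only [Iso.trans_hom, Iso.app_hom, Category.assoc]
    erw [reassoc_of% a, b]
  show _ ≫ DCat.PullTensor.pullTensorHom m F _ ≫ _ = (DCat.PullTensor.pullTensorHom m F _ ≫ _) ≫ _
  refine ((Category.assoc _ _ _).symm.trans (congrArg (· ≫ _) h₁)).trans ?_
  refine (Category.assoc _ _ _).trans (Eq.trans ?_ (Category.assoc _ _ _).symm)
  refine congrArg (DCat.PullTensor.pullTensorHom m F _ ≫ ·) ?_
  exact ((Coherent.tensE ((Scheme.Modules.pullback m).obj F)).map_comp _ _).symm.trans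
    ((congrArg (Coherent.tensE ((Scheme.Modules.pullback m).obj F)).map h₂).trans
      ((Coherent.tensE ((Scheme.Modules.pullback m).obj F)).map_comp _ _))

/-- Epimorphy of a direct image is invariant under isomorphism of arrows. -/
theorem epi_push_iff {A A' B B' : W'.Modules} {a : A ⟶ B} {a' : A' ⟶ B'} (eA : A ≅ A') (eB : B ≅ B')
    (h : a ≫ eB.hom = eA.hom ≫ a') : Epi ((Coh.push p').map a) ↔ Epi ((Coh.push p').map a') := by
  have h' : a' = eA.inv ≫ a ≫ eB.hom := by rw [h, Iso.inv_hom_id_assoc]
  have h'' : a = eA.hom ≫ a' ≫ eB.inv := by rw [← reassoc_of% h, Iso.hom_inv_id, Category.comp_id]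
  constructor
  · intro he
    haveI := he
    rw [h', Functor.map_comp, Functor.map_comp]
    infer_instance
  · intro he
    haveI := he
    rw [h'', Functor.map_comp, Functor.map_comp]
    infer_instance

include hm hq in
theorem epi_restrict_iff (k : Type u) [Field k] [C.Over (Spec (CommRingCat.of k))]
    (hC : Curve.IsSmoothProperCurve k C (C ↘ Spec (CommRingCat.of k)))
    {g : T ⟶ Spec (CommRingCat.of k)} (hsq : IsPullback p q g (C ↘ Spec (CommRingCat.of k)))
    (hF : FlatMod.IsFinLocFree F) (D : C.IdealSheafData) (hD : BlowUp.IsEffCartierIdeal D) :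
    (Epi ((Coh.push p).map ((tw (q := q) F).map (ClSub.toSubscheme D))) →
      Epi ((Coh.push p').map ((tw (q := q') ((Scheme.Modules.pullback m).obj F)).map (ClSub.toSubscheme D)))) ∧
    (Flat u → Surjective u →
      Epi ((Coh.push p').map ((tw (q := q') ((Scheme.Modules.pullback m).obj F)).map (ClSub.toSubscheme D))) →
      Epi ((Coh.push p).map ((tw (q := q) F).map (ClSub.toSubscheme D)))) := by
  obtain ⟨hp, hs, hi, hdim⟩ := hC
  haveI := hp
  haveI := hs
  haveI := hi
  haveI := CurveRR24.isLocallyNoetherian_of_proper k (X := C)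
  haveI := EulerLib.isNoetherian_of_proper k (X := C)
  haveI : IsProper p := MorphismProperty.IsStableUnderBaseChange.of_isPullback (P := @IsProper) hsq.flip inferInstance
  haveI : PreservesColimitsOfSize.{0, 0} (Scheme.Modules.pullback u) :=
    (Scheme.Modules.pullbackPushforwardAdjunction u).leftAdjoint_preservesColimits
  have hη : genericPoint C ∉ (D.support : Set C) :=
    VarietyLib.notMem_support_of_effCartier hD fun w hw =>
      ((genericPoint_spec C).specializes trivial).antisymm hw |>.eq.symm
  obtain ⟨U, hU, hDU⟩ := Stk19b.HilbCurve.exists_affineOpen_of_finite (k := k)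
    (C ↘ Spec (CommRingCat.of k)) hdim _ (closed_small k hdim.le D.support.2 hη).1
  let φ := (tw (q := q) F).map (ClSub.toSubscheme D)
  haveI : Coh.IsQCoh F := CAlgH3.LocFreeFactor.isQCoh_of_finLocFree hF
  have hqc : ∀ Q : C.Modules, Coh.IsQCoh Q → Coh.IsQCoh ((tw (q := q) F).obj Q) := fun Q hQ => by
    haveI := EGA43.InjFibre.isQCoh_pullback q Q
    exact Coherent.isQCoh_tensorMod F _
  haveI : Coh.IsQCoh ((tw (q := q) F).obj (Coh.structureModule C)) := hqc _ (Coherent.isCoh_structureModule C).1
  haveI : Coh.IsQCoh ((tw (q := q) F).obj (ClSub.quotMod D)) := hqc _ (isCoh_quotMod D).1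
  have hnat := DQCoh.BCPush17.bc0_natural p u p' m hm.w φ
  have hB : IsIso (CohBC.bc0 p u p' m hm.w ((tw (q := q) F).obj (ClSub.quotMod D))) := by
    let B := (tw (q := q) F).obj (ClSub.quotMod D)
    let V := q ⁻¹ᵁ U
    obtain ⟨e⟩ := nonempty_iso_push_restrict B (q.base ⁻¹' (D.support : Set C))
      (D.support.2.preimage q.continuous)
      ((support_tensor_pullback q F _ (isCoh_quotMod D)).trans (Set.preimage_mono (support_quotMod_subset D)))
      (U := V) (fun x hx => hDU hx)
    let N := (Scheme.Modules.restrictFunctor V.ι).obj B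
    haveI := EGA43.InjFibre.isQCoh_pullback V.ι B
    haveI : Coh.IsQCoh N := Coherent.isQCoh_of_iso ((Scheme.Modules.restrictFunctorIsoPullback V.ι).app B).symm
    haveI : IsAffine U.toScheme := hU
    haveI : IsAffineHom U.ι :=
      MorphismProperty.of_postcomp (W := @IsAffineHom) (W' := @IsSeparated) U.ι (C ↘ Spec (CommRingCat.of k))
        inferInstance inferInstance
    haveI : IsAffineHom V.ι :=
      MorphismProperty.IsStableUnderBaseChange.of_isPullback (P := @IsAffineHom)
        (isPullback_morphismRestrict q U) inferInstance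
    haveI : IsAffineHom (V.ι ≫ p) :=
      MorphismProperty.IsStableUnderBaseChange.of_isPullback (P := @IsAffineHom)
        ((isPullback_morphismRestrict q U).paste_vert hsq.flip) inferInstance
    have hj := isPullback_morphismRestrict m V
    haveI : IsIso (CohBC.bc0 p u p' m hm.w ((Scheme.Modules.pushforward V.ι).obj N)) :=
      DQCoh.BCPush17.isIso_bc0_push p u p' m hm.w hj.w N (CohExch.isIso_bc0_of_affine hj N)
        (CohExch.isIso_bc0_of_affine (hj.paste_vert hm) N)
    have hn := DQCoh.BCPush17.bc0_natural p u p' m hm.w e.hom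
    haveI : IsIso (CohBC.bc0 p u p' m hm.w B ≫
        (Scheme.Modules.pushforward p').map ((Scheme.Modules.pullback m).map e.hom)) := by
      rw [← hn]; infer_instance
    exact IsIso.of_isIso_comp_right _ ((Scheme.Modules.pushforward p').map ((Scheme.Modules.pullback m).map e.hom))
  haveI := hB
  have hiff := epi_push_iff (p' := p') (pullTwIso hq F (Coh.structureModule C)) (pullTwIso hq F (ClSub.quotMod D))
    (pullTwIso_nat hq F (ClSub.toSubscheme D))
  refine ⟨fun he => hiff.1 ?_, fun hfl hsu he => ?_⟩
  · haveI := he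
    haveI : Epi ((Scheme.Modules.pullback u).map ((Scheme.Modules.pushforward p).map φ)) :=
      (Scheme.Modules.pullback u).map_epi _
    haveI : Epi ((Scheme.Modules.pullback u).map ((Scheme.Modules.pushforward p).map φ) ≫
        CohBC.bc0 p u p' m hm.w ((tw (q := q) F).obj (ClSub.quotMod D))) :=
      epi_comp' inferInstance inferInstance
    haveI : Epi (CohBC.bc0 p u p' m hm.w ((tw (q := q) F).obj (Coh.structureModule C)) ≫
        (Scheme.Modules.pushforward p').map ((Scheme.Modules.pullback m).map φ)) := by
      rw [← hnat]; infer_instance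
    exact epi_of_epi (CohBC.bc0 p u p' m hm.w ((tw (q := q) F).obj (Coh.structureModule C))) _
  · haveI := hfl
    haveI := hsu
    haveI : IsIso (CohBC.bc0 p u p' m hm.w ((tw (q := q) F).obj (Coh.structureModule C))) :=
      CohExch.isIso_bc0_of_flat_morphism hm _
    have he' := hiff.2 he
    haveI : Epi ((Scheme.Modules.pullback u).map ((Scheme.Modules.pushforward p).map φ) ≫
        CohBC.bc0 p u p' m hm.w ((tw (q := q) F).obj (ClSub.quotMod D))) := by
      rw [hnat]; exact epi_comp' inferInstance he'
    haveI : Epi ((Scheme.Modules.pullback u).map ((Scheme.Modules.pushforward p).map φ)) := by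
      have := epi_comp' (f := (Scheme.Modules.pullback u).map ((Scheme.Modules.pushforward p).map φ) ≫
        CohBC.bc0 p u p' m hm.w ((tw (q := q) F).obj (ClSub.quotMod D))) inferInstance
        (inferInstance : Epi (inv (CohBC.bc0 p u p' m hm.w ((tw (q := q) F).obj (ClSub.quotMod D)))))
      simpa using this
    exact epi_of_pullback u ((Scheme.Modules.pushforward p).map φ)

end

end Groth.Agent.FreeSec27
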