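import Groth.Prelude.Def_Curve
import Groth.Agent.CohCmpLib.Edge
import Groth.Agent.CohCmpLib.Compare
import Groth.Agent.CommAlg4.InjHorseshoe
import Groth.Agent.BlowUpCoh.LocFree
import Groth.Agent.Coherent.RpushComp
import Groth.Agent.Coherent.TensorFinLoc
import Groth.Agent.Coherent.SupportPullback
import Groth.Agent.Coherent.TensorQcoh
import Groth.Agent.EGA43.InjFibre.Scheme
import Groth.Agent.DCat.FlatPull
import Groth.Agent.KTop28.Basic
import Groth.Agent.CurveRR24.Sky
import Groth.Agent.Stk19b.HilbCurve.Field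
import Groth.Agent.VarietyLib.DivisorCut
import Groth.Agent.CurveRR24.Section
import Groth.Agent.CAlgH3.LocFreeFactor
import Groth.Agent.EulerLib.StabBasic

/-!
# Direct images of twists by a divisor on a relative constant curve
-/

set_option autoImplicit false
set_option linter.style.haveILetI false
set_option linter.unusedSectionVars false
set_option backward.isDefEq.respectTransparency.types false

universe u

open CategoryTheory CategoryTheory.Limits AlgebraicGeometry Opposite TopologicalSpace
open Groth.Agent.Coherent Groth.Agent.PicLib Groth.Agent.CurveRR24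

namespace Groth.Agent.FreeSec27

/-- A long exact sequence argument in degrees `0` and `1`. -/
theorem isZero_rpush_one_iff {W T : Scheme.{u}} (p : W ⟶ T) [HasInjectiveResolutions W.Modules]
    (S : ShortComplex W.Modules) (hS : S.ShortExact) (h₃ : IsZero ((Coh.Rpush p 1).obj S.X₃)) :
    IsZero ((Coh.Rpush p 1).obj S.X₁) ↔
      (IsZero ((Coh.Rpush p 1).obj S.X₂) ∧ Epi ((Coh.push p).map S.g)) := by
  haveI : EnoughInjectives W.Modules := SpecSeq.enoughInjectives_of_hasInjectiveResolutions _
  haveI : PreservesLimitsOfSize.{0, 0} (Scheme.Modules.pushforward p) :=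
    (Scheme.Modules.pullbackPushforwardAdjunction p).rightAdjoint_preservesLimits
  obtain ⟨Δ⟩ := CommAlg4.InjHorseshoe.nonempty_derivedLES (Scheme.Modules.pushforward p)
  constructor
  · intro h₁
    exact ⟨(Δ.exact₂ S hS 1).isZero_of_both_zeros (h₁.eq_of_src _ _) (h₃.eq_of_tgt _ _),
      (CohCmpLib.shortExact_push_of_isZero p hS h₁).epi_g⟩
  · rintro ⟨h₂, he⟩
    haveI := CohCmpLib.isIso_toRightDerivedZero_app p S.X₃
    have e := (Scheme.Modules.pushforward p).toRightDerivedZero.naturality S.g
    haveI : Epi (((Scheme.Modules.pushforward p).map S.g) ≫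
        (Scheme.Modules.pushforward p).toRightDerivedZero.app S.X₃) :=
      epi_comp' he inferInstance
    haveI : Epi ((Scheme.Modules.pushforward p).toRightDerivedZero.app S.X₂ ≫
        ((Scheme.Modules.pushforward p).rightDerived 0).map S.g) := by rw [← e]; infer_instance
    haveI : Epi (((Scheme.Modules.pushforward p).rightDerived 0).map S.g) :=
      epi_of_epi ((Scheme.Modules.pushforward p).toRightDerivedZero.app S.X₂) _
    have hδ : Δ.δ S hS 0 1 rfl = 0 := by
      rw [← cancel_epi (((Scheme.Modules.pushforward p).rightDerived 0).map S.g), Δ.comp_δ S hS 0 1 rfl,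
        comp_zero]
    exact (Δ.exact₁ S hS 0 1 rfl).isZero_of_both_zeros hδ (h₂.eq_of_tgt _ _)

/-- Restriction to an open containing the support is bijective. -/
theorem bijective_resM_support {X : Scheme.{u}} (M : X.Modules) (T : Set X) (hT : IsClosed T)
    (hM : CohB1.support M ⊆ T) {U : X.Opens} (hU : T ⊆ (U : Set X)) (V : X.Opens) :
    Function.Bijective (resM M (inf_le_left : V ⊓ U ≤ V)) := by
  let O : X.Opens := ⟨Tᶜ, hT.isOpen_compl⟩
  have hsub : ∀ W : X.Opens, W ≤ O → Subsingleton Γ(M, W) := fun W hW =>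
    subsingleton_sections_of_disjoint M W (Set.disjoint_left.2 fun x hx hxs => hW hx (hM hxs))
  let F : TopCat.Sheaf Ab X := ⟨M.presheaf, M.isSheaf⟩
  constructor
  · intro a b hab
    refine TopCat.Presheaf.section_ext F V a b fun z hz => ?_
    by_cases h : z ∈ T
    · have h1 := TopCat.Presheaf.germ_res_apply F.presheaf (homOfLE (inf_le_left : V ⊓ U ≤ V)) z ⟨hz, hU h⟩ a
      have h2 := TopCat.Presheaf.germ_res_apply F.presheaf (homOfLE (inf_le_left : V ⊓ U ≤ V)) z ⟨hz, hU h⟩ b
      exact h1.symm.trans ((congrArg (F.presheaf.germ (V ⊓ U) z ⟨hz, hU h⟩) hab).trans h2)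
    · exact (not_not.1 fun hne => h (hM hne) : Subsingleton (M.presheaf.stalk z)).elim _ _
  · intro s
    let I : ULift.{u} Bool → X.Opens := fun b => if b.down then V ⊓ U else V ⊓ O
    let sf : ∀ b, ToType (F.presheaf.obj (op (I b))) := fun b =>
      match b with
      | ⟨true⟩ => (s : Γ(M, V ⊓ U))
      | ⟨false⟩ => (0 : Γ(M, V ⊓ O))
    have hcompat : TopCat.Presheaf.IsCompatible F.presheaf I sf := by
      rintro ⟨_ | _⟩ ⟨_ | _⟩
      · rfl
      · exact (hsub _ (inf_le_left.trans inf_le_right)).elim _ _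
      · exact (hsub _ (inf_le_right.trans inf_le_right)).elim _ _
      · rfl
    obtain ⟨g, hg, -⟩ := TopCat.Sheaf.existsUnique_gluing' F I V
      (fun b => homOfLE (by rcases b with ⟨_ | _⟩ <;> exact inf_le_left))
      (fun z hz => by
        by_cases h : z ∈ T
        · exact Opens.mem_iSup.2 ⟨⟨true⟩, ⟨hz, hU h⟩⟩
        · exact Opens.mem_iSup.2 ⟨⟨false⟩, ⟨hz, h⟩⟩) sf hcompat
    exact ⟨g, hg ⟨true⟩⟩

/-- A module supported in an open is the direct image of its restriction. -/
theorem nonempty_iso_push_restrict {X : Scheme.{u}} (M : X.Modules) (T : Set X) (hT : IsClosed T)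
    (hM : CohB1.support M ⊆ T) {U : X.Opens} (hU : T ⊆ (U : Set X)) :
    Nonempty (M ≅ (Scheme.Modules.pushforward U.ι).obj ((Scheme.Modules.restrictFunctor U.ι).obj M)) := by
  let η := (Scheme.Modules.restrictAdjunction U.ι).unit.app M
  haveI : IsIso η := by
    suffices ∀ V : X.Opens, Function.Bijective (η.app V) by
      haveI : IsIso ((Scheme.Modules.toPresheaf X).map η) := by
        haveI : ∀ V, IsIso (((Scheme.Modules.toPresheaf X).map η).app V) := fun V =>
          (ConcreteCategory.isIso_iff_bijective _).2 (this V.unop)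
        exact NatIso.isIso_of_isIso_app _
      exact isIso_of_reflects_iso η (Scheme.Modules.toPresheaf X)
    intro V
    have hle : U.ι ''ᵁ (U.ι ⁻¹ᵁ V) ≤ V := U.ι.image_preimage_le V
    have he : U.ι ''ᵁ (U.ι ⁻¹ᵁ V) = V ⊓ U := by
      rw [U.ι.image_preimage_eq_opensRange_inf, Scheme.Opens.opensRange_ι, inf_comm]
    have hb : ∀ (W : X.Opens) (h : W ≤ V), W = V ⊓ U → Function.Bijective (resM M h) := by
      rintro W h rfl
      exact bijective_resM_support M T hT hM hU V
    exact hb _ hle he
  exact ⟨(asIso η :)⟩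

/-- Modules supported over a finite set of points of the curve have no first direct image. -/
theorem isZero_rpush_of_support {W T C S : Scheme.{u}} {g : T ⟶ S} {c : C ⟶ S} [IsSeparated c]
    [IsAffine S] {p : W ⟶ T} {q : W ⟶ C} (hsq : IsPullback p q g c)
    [HasInjectiveResolutions W.Modules] (U : C.Opens) (hU : IsAffineOpen U) (Z : Set C) (hZ : IsClosed Z)
    (hZU : Z ⊆ (U : Set C)) (M : W.Modules) [Coh.IsQCoh M] (hM : CohB1.support M ⊆ q.base ⁻¹' Z) :
    IsZero ((Coh.Rpush p 1).obj M) := by
  haveI : IsAffineHom (U.ι ≫ c) := by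
    haveI : IsAffine U.toScheme := hU
    infer_instance
  haveI : IsAffine U.toScheme := hU
  haveI : IsAffineHom U.ι := by
    haveI : IsAffineHom (U.ι ≫ c) := inferInstance
    exact MorphismProperty.of_postcomp (W := @IsAffineHom) (W' := @IsSeparated) U.ι c inferInstance inferInstance
  let j := (q ⁻¹ᵁ U).ι
  haveI : IsAffineHom j :=
    MorphismProperty.IsStableUnderBaseChange.of_isPullback (P := @IsAffineHom)
      (isPullback_morphismRestrict q U) inferInstance
  haveI : IsAffineHom (j ≫ p) :=
    MorphismProperty.IsStableUnderBaseChange.of_isPullback (P := @IsAffineHom)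
      ((isPullback_morphismRestrict q U).paste_vert hsq.flip) inferInstance
  let M' := (Scheme.Modules.restrictFunctor j).obj M
  haveI := EGA43.InjFibre.isQCoh_pullback j M
  haveI : Coh.IsQCoh M' := Coherent.isQCoh_of_iso ((Scheme.Modules.restrictFunctorIsoPullback j).app M).symm
  obtain ⟨e⟩ := nonempty_iso_push_restrict M (q.base ⁻¹' Z) (hZ.preimage q.continuous) hM
    (U := q ⁻¹ᵁ U) (fun x hx => hZU hx)
  obtain ⟨e'⟩ := Coherent.nonempty_rpushAb_comp_affine j p M' 1
  refine BlowUpCoh.isZero_rpush_of_rpushAb p ?_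
  refine (IsZero.of_iso ?_ e').of_iso ((Coh.RpushAb p 1).mapIso ((Coherent.toAbFunctor W).mapIso e))
  exact Coherent.isZero_rpushAb_of_isAffineHom (j ≫ p) M' 1 Nat.one_pos

/-- Support of a tensor with a pullback. -/
theorem support_tensor_pullback {W C : Scheme.{u}} (q : W ⟶ C) (F : W.Modules) (Q : C.Modules)
    (hQ : Coh.IsCoh Q) :
    CohB1.support (CohB1.tensorMod F ((Scheme.Modules.pullback q).obj Q)) ⊆ q.base ⁻¹' CohB1.support Q :=
  fun x hx => (Coherent.support_pullback_qcoh (f := q) (F := Q) hQ.1 hQ.2).le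
    (fun hs => hx (by
      haveI : Subsingleton (((DerSch.stalkFunctor W x)).obj ((Scheme.Modules.pullback q).obj Q)) := hs
      haveI : Subsingleton (TensorProduct (W.presheaf.stalk x) (((DerSch.stalkFunctor W x)).obj F)
          (((DerSch.stalkFunctor W x)).obj ((Scheme.Modules.pullback q).obj Q))) :=
        subsingleton_of_forall_eq 0 fun w => by
          induction w using TensorProduct.induction_on with
          | zero => rfl
          | tmul a b => rw [Subsingleton.elim b 0, TensorProduct.tmul_zero]
          | add a b ha hb => rw [ha, hb, add_zero]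
      exact (ModStalk.stalkTensorIso x F _).toLinearEquiv.toEquiv.subsingleton))

section Curve

variable {W T C : Scheme.{u}} (k : Type u) [Field k] [C.Over (Spec (CommRingCat.of k))]
  (hC : Curve.IsSmoothProperCurve k C (C ↘ Spec (CommRingCat.of k)))
  {g : T ⟶ Spec (CommRingCat.of k)} {p : W ⟶ T} {q : W ⟶ C}
  (hsq : IsPullback p q g (C ↘ Spec (CommRingCat.of k))) [HasInjectiveResolutions W.Modules]
  (F : W.Modules) (hF : FlatMod.IsFinLocFree F)

/-- `F ⊗ -` after pullback. -/
noncomputable abbrev tw : C.Modules ⥤ W.Modules := Scheme.Modules.pullback q ⋙ Coherent.tensE F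

include hC hsq hF in
theorem main (D : C.IdealSheafData) (hD : BlowUp.IsEffCartierIdeal D) :
    (IsZero ((Coh.Rpush p 1).obj ((tw (q := q) F).obj (ClSub.idealMod D))) ↔
      (IsZero ((Coh.Rpush p 1).obj ((tw (q := q) F).obj (Coh.structureModule C))) ∧
        Epi ((Coh.push p).map ((tw (q := q) F).map (ClSub.toSubscheme D))))) ∧
    ∀ D' : C.IdealSheafData, D ≤ D' →
      Epi ((Coh.push p).map ((tw (q := q) F).map (ClSub.toSubscheme D))) →
      Epi ((Coh.push p).map ((tw (q := q) F).map (ClSub.toSubscheme D'))) := by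
  obtain ⟨hp, hs, hi, hdim⟩ := hC
  haveI := hp
  haveI := hs
  haveI := hi
  haveI := CurveRR24.isLocallyNoetherian_of_proper k (X := C)
  haveI := EulerLib.isNoetherian_of_proper k (X := C)
  haveI : Flat q := MorphismProperty.IsStableUnderBaseChange.of_isPullback (P := @Flat) hsq inferInstance
  haveI := Coherent.preservesFiniteLimits_tensE hF
  haveI := Coherent.preservesFiniteColimits_tensE hF
  haveI : PreservesColimitsOfSize.{0, 0} (Scheme.Modules.pullback q) :=
    (Scheme.Modules.pullbackPushforwardAdjunction q).leftAdjoint_preservesColimits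
  have hη : genericPoint C ∉ (D.support : Set C) :=
    VarietyLib.notMem_support_of_effCartier hD fun w hw =>
      ((genericPoint_spec C).specializes trivial).antisymm hw |>.eq.symm
  have hfin : (D.support : Set C).Finite := (closed_small k hdim.le D.support.2 hη).1
  obtain ⟨U, hU, hDU⟩ := Stk19b.HilbCurve.exists_affineOpen_of_finite (k := k)
    (C ↘ Spec (CommRingCat.of k)) hdim _ hfin
  have hFq : Coh.IsQCoh F := CAlgH3.LocFreeFactor.isQCoh_of_finLocFree hF
  have hq : ∀ (Q : C.Modules), Coh.IsQCoh Q → Coh.IsQCoh ((tw (q := q) F).obj Q) := by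
    intro Q hQ
    haveI := EGA43.InjFibre.isQCoh_pullback q Q
    exact Coherent.isQCoh_tensorMod F _
  have hvan : ∀ (M : W.Modules), Coh.IsQCoh M → CohB1.support M ⊆ q.base ⁻¹' (D.support : Set C) →
      IsZero ((Coh.Rpush p 1).obj M) := fun M hMq hM =>
    isZero_rpush_of_support hsq U hU (D.support : Set C) D.support.2 hDU M hM
  have hsupp : ∀ D' : C.IdealSheafData, D ≤ D' →
      CohB1.support ((tw (q := q) F).obj (ClSub.quotMod D')) ⊆ q.base ⁻¹' (D.support : Set C) :=
    fun D' hle => (support_tensor_pullback q F _ (isCoh_quotMod D')).trans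
      (Set.preimage_mono ((support_quotMod_subset D').trans (Scheme.IdealSheafData.support_antitone hle)))
  have hS : ((ShortComplex.mk (ClSub.idealModι D) (ClSub.toSubscheme D)
      (kernel.condition (ClSub.toSubscheme D))).map (tw (q := q) F)).ShortExact :=
    (shortExact_ideal D).map_of_exact _
  refine ⟨isZero_rpush_one_iff p _ hS (hvan _ (hq _ (isCoh_quotMod D).1) (hsupp D le_rfl)), ?_⟩
  intro D' hle he
  have hz : ClSub.idealModι D ≫ ClSub.toSubscheme D' = 0 := by
    refine Scheme.Modules.hom_ext _ _ fun V => ?_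
    ext x
    show D'.subschemeι.app V ((ClSub.idealModι D).app V x) = 0
    have h0 : D.subschemeι.app V ((ClSub.idealModι D).app V x) = 0 :=
      kernel_ι_app_zero (ClSub.toSubscheme D) V x
    rw [Scheme.Hom.congr_app (Scheme.IdealSheafData.inclusion_subschemeι hle).symm V, Scheme.Hom.comp_app]
    simp [h0]
  let π : ClSub.quotMod D ⟶ ClSub.quotMod D' :=
    (shortExact_ideal D).gIsCokernel.desc (CokernelCofork.ofπ (ClSub.toSubscheme D') hz)
  have hπ : ClSub.toSubscheme D ≫ π = ClSub.toSubscheme D' :=
    (shortExact_ideal D).gIsCokernel.fac (CokernelCofork.ofπ _ hz) WalkingParallelPair.one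
  haveI : Epi π := by
    haveI := epi_toSubscheme D'
    haveI : Epi (ClSub.toSubscheme D ≫ π) := by rw [hπ]; infer_instance
    exact epi_of_epi (ClSub.toSubscheme D) π
  let ψ := (tw (q := q) F).map π
  haveI : Epi ψ := inferInstance
  have hK : CohB1.support (kernel ψ) ⊆ q.base ⁻¹' (D.support : Set C) := by
    intro x hx
    refine hsupp D le_rfl (fun hs => hx ?_)
    haveI : Mono ((DerSch.stalkFunctor W x).map (kernel.ι ψ)) := inferInstance
    haveI : Subsingleton ((DerSch.stalkFunctor W x).obj ((tw (q := q) F).obj (ClSub.quotMod D))) := hs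
    exact ((ModuleCat.mono_iff_injective ((DerSch.stalkFunctor W x).map (kernel.ι ψ))).1 inferInstance).subsingleton
  have hKq : Coh.IsQCoh (kernel ψ) := by
    haveI := hq _ (isCoh_quotMod D).1
    haveI := hq _ (isCoh_quotMod D').1
    exact Coherent.isQCoh_kernel ψ
  haveI : Epi ((Coh.push p).map ψ) :=
    (CohCmpLib.shortExact_push_of_isZero p (EulerLib.shortExact_kernel (X := W) ψ) (hvan _ hKq hK)).epi_g
  haveI := he
  rw [← hπ, Functor.map_comp, Functor.map_comp]
  exact epi_comp' inferInstance inferInstance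

end Curve

end Groth.Agent.FreeSec27
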